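import Mathlib
import Groth.Agent.Lib.Helper8.Val.SatFG

/-!
# helper8: local finiteness of saturated submodules over a domain at a prime whose local ring is
a valuation ring (input for the Prüfer local-global argument)
-/

set_option autoImplicit false
universe u

open TensorProduct

namespace Groth.Agent.H8.Prufer

theorem mk_eq_zero' {R : Type*} [CommRing R] {S : Submonoid R} {M : Type*} [AddCommGroup M]
    [Module R M] (m : M) (s : S) :
    LocalizedModule.mk m s = 0 ↔ ∃ u : S, u • m = 0 := by
  rw [← LocalizedModule.zero_mk s, LocalizedModule.mk_eq]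
  constructor
  · rintro ⟨u, hu⟩
    refine ⟨u * s, ?_⟩
    rw [smul_zero, smul_zero] at hu
    rw [mul_smul]
    exact hu
  · rintro ⟨u, hu⟩
    refine ⟨u, ?_⟩
    rw [smul_comm, hu]
    simp

section

variable {R : Type u} [CommRing R] [IsDomain R] (p : Ideal R) [p.IsPrime]
  [ValuationRing (Localization.AtPrime p)]
  {A : Type u} [CommRing A] [Algebra R A] [Algebra.FiniteType R A]

local notation "S'" => Algebra.algebraMapSubmonoid A p.primeCompl

/-- the localization (at the image of `R ∖ p`) of a finite `R`-torsion free `A`-module is finitely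
presented over the localized algebra -/
theorem fp_localized (Q : Type u) [AddCommGroup Q] [Module A Q] [Module R Q] [IsScalarTower R A Q]
    [Module.Finite A Q] (htf : ∀ a : R, a ≠ 0 → ∀ x : Q, a • x = 0 → x = 0) :
    Module.FinitePresentation (Localization S') (LocalizedModule S' Q) := by
  letI modV : Module (Localization.AtPrime p) (LocalizedModule S' Q) :=
    Module.compHom _ (algebraMap (Localization.AtPrime p) (Localization S'))
  haveI tower : IsScalarTower (Localization.AtPrime p) (Localization S') (LocalizedModule S' Q) :=
    ⟨fun v b m => by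
      change (v • b) • m = algebraMap (Localization.AtPrime p) (Localization S') v • (b • m)
      rw [Algebra.smul_def, mul_smul]⟩
  haveI ft : Algebra.FiniteType (Localization.AtPrime p) (Localization S') := by
    have hf : (algebraMap R A).FiniteType := RingHom.finiteType_algebraMap.mpr inferInstance
    haveI : IsLocalization (Submonoid.map (algebraMap R A) p.primeCompl) (Localization S') :=
      (inferInstance : IsLocalization S' (Localization S'))
    exact RingHom.finiteType_localizationPreserves (algebraMap R A) p.primeCompl
      (Localization.AtPrime p) (Localization S') hf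
  haveI flat : Module.Flat (Localization.AtPrime p) (LocalizedModule S' Q) := by
    rw [Module.Flat.flat_iff_torsion_eq_bot_of_isBezout, eq_bot_iff]
    intro x hx
    rw [Submodule.mem_torsion_iff] at hx
    obtain ⟨⟨v, hv⟩, hvx⟩ := hx
    have hv0 : v ≠ 0 := nonZeroDivisors.ne_zero hv
    obtain ⟨⟨a, s⟩, rfl⟩ := IsLocalization.mk'_surjective p.primeCompl v
    have ha : a ≠ 0 := by
      rintro rfl
      exact hv0 (IsLocalization.mk'_zero _)
    rw [Submodule.mem_bot]
    induction x using LocalizedModule.induction_on with
    | h q t =>
      change algebraMap (Localization.AtPrime p) (Localization S')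
        (IsLocalization.mk' (Localization.AtPrime p) a s) • LocalizedModule.mk q t = 0 at hvx
      rw [IsLocalization.algebraMap_mk' A (Localization.AtPrime p) (Localization S'),
        ← Localization.mk_eq_mk', LocalizedModule.mk_smul_mk, mk_eq_zero'] at hvx
      obtain ⟨u, hu⟩ := hvx
      rw [mk_eq_zero']
      refine ⟨u, ?_⟩
      apply htf a ha
      rw [← hu, algebraMap_smul, smul_comm]
  exact Groth.Agent.H8.Val.fp_of_flat (Localization.AtPrime p) (Localization S')
    (LocalizedModule S' Q)

/-- **local finiteness**: a saturated submodule `L` of a finite `A`-module is, after localizing at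
`R ∖ p` (with `R_p` a valuation ring), generated by finitely many of its elements -/
theorem local_fg {F : Type u} [AddCommGroup F] [Module A F] [Module R F] [IsScalarTower R A F]
    [Module.Finite A F] (L : Submodule A F)
    (hsat : ∀ a : R, a ≠ 0 → ∀ x : F, a • x ∈ L → x ∈ L) :
    ∃ W : Finset F, (∀ w ∈ W, w ∈ L) ∧
      ∀ z ∈ L, ∃ s ∈ p.primeCompl, s • z ∈ Submodule.span A (W : Set F) := by
  classical
  haveI fpM : Module.FinitePresentation (Localization S') (LocalizedModule S' (F ⧸ L)) := by
    refine fp_localized p (F ⧸ L) ?_
    intro a ha x hx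
    induction x using Submodule.Quotient.induction_on with
    | H x =>
      rw [← Submodule.Quotient.mk_smul, Submodule.Quotient.mk_eq_zero] at hx
      rw [Submodule.Quotient.mk_eq_zero]
      exact hsat a ha x hx
  haveI : Module.FinitePresentation (Localization S') (LocalizedModule S' F ⧸ L.localized S') :=
    Module.FinitePresentation.of_equiv (localizedQuotientEquiv S' L).symm
  have hfg : (L.localized S').FG := by
    have := Module.FinitePresentation.fg_ker (L.localized S').mkQ (Submodule.mkQ_surjective _)
    rwa [Submodule.ker_mkQ] at this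
  obtain ⟨T, hT⟩ := hfg
  have hmem : ∀ x ∈ T, ∃ m ∈ L, ∃ s : S',
      IsLocalizedModule.mk' (LocalizedModule.mkLinearMap S' F) m s = x := by
    intro x hx
    have hx' : x ∈ L.localized S' := hT ▸ Submodule.subset_span (Finset.mem_coe.mpr hx)
    exact (Submodule.mem_localized' _ _ _ _ _).mp hx'
  choose! m hm s hs using hmem
  refine ⟨T.image m, ?_, ?_⟩
  · intro w hw
    obtain ⟨x, hx, rfl⟩ := Finset.mem_image.mp hw
    exact hm x hx
  · intro z hz
    have h1 : L.localized S' ≤ (Submodule.span A ((T.image m : Finset F) : Set F)).localized S' := by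
      rw [← hT, Submodule.span_le]
      intro x hx
      exact ⟨m x, Submodule.subset_span (Finset.mem_coe.mpr (Finset.mem_image_of_mem m hx)), s x,
        hs x hx⟩
    have h2 : LocalizedModule.mkLinearMap S' F z ∈ L.localized S' :=
      ⟨z, hz, 1, IsLocalizedModule.mk'_one _ _ _⟩
    obtain ⟨m', hm', s', hs'⟩ := h1 h2
    rw [IsLocalizedModule.mk'_eq_iff] at hs'
    have h3 : LocalizedModule.mkLinearMap S' F m' = LocalizedModule.mkLinearMap S' F ((s' : A) • z) := by
      rw [hs', LinearMap.map_smul]
      rfl
    obtain ⟨c, hc⟩ := IsLocalizedModule.exists_of_eq (S := S') h3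
    obtain ⟨r, hr, hrc⟩ : ∃ r ∈ p.primeCompl, algebraMap R A r = ((c * s' : S') : A) := (c * s').2
    refine ⟨r, hr, ?_⟩
    rw [← algebraMap_smul A r z, hrc]
    have h4 : ((c * s' : S') : A) • z = c • m' := by
      rw [hc, Submonoid.coe_mul, mul_smul]
      rfl
    rw [h4]
    exact Submodule.smul_mem _ _ hm'

end

end Groth.Agent.H8.Prufer
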