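import Mathlib
import Groth.Agent.Lib.Helper8.Prufer.Local
import Groth.Agent.Lib.Helper1.LimFlat4

/-!
# helper8: saturated submodules of finitely presented modules over finitely presented algebras
over a Prüfer domain are finitely generated (local-global argument: valuation ring case +
openness of the flat locus)
-/

set_option autoImplicit false
universe u

namespace Groth.Agent.H8.Prufer

section

variable {R : Type u} [CommRing R] [IsDomain R]
  (hR : ∀ (p : Ideal R) [p.IsPrime], ValuationRing (Localization.AtPrime p))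
  {A : Type u} [CommRing A] [Algebra R A]
  {F : Type u} [AddCommGroup F] [Module A F] [Module R F] [IsScalarTower R A F]

include hR in
theorem flat_localized_quot (p : Ideal R) [p.IsPrime] (L N : Submodule A F) (hNL : N ≤ L)
    (hsat : ∀ a : R, a ≠ 0 → ∀ x : F, a • x ∈ L → x ∈ L)
    (hloc : ∀ z ∈ L, ∃ s ∈ p.primeCompl, s • z ∈ N)
    (𝔓 : Ideal A) [𝔓.IsPrime] (h𝔓 : 𝔓.comap (algebraMap R A) ≤ p) :
    Module.Flat R (LocalizedModule 𝔓.primeCompl (F ⧸ N)) := by
  rw [Module.Flat.flat_iff_torsion_eq_bot_of_valuationRing_localization_isMaximal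
    (fun P _ => hR P), eq_bot_iff]
  intro x hx
  rw [Submodule.mem_torsion_iff] at hx
  obtain ⟨⟨r, hr⟩, hrx⟩ := hx
  have hr0 : r ≠ 0 := nonZeroDivisors.ne_zero hr
  rw [Submodule.mem_bot]
  induction x using LocalizedModule.induction_on with
  | h c t =>
    induction c using Submodule.Quotient.induction_on with
    | H f₀ =>
      change r • LocalizedModule.mk (Submodule.Quotient.mk f₀ : F ⧸ N) t = 0 at hrx
      rw [LocalizedModule.smul'_mk, mk_eq_zero'] at hrx
      obtain ⟨u, hu⟩ := hrx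
      have h1 : r • ((u : A) • f₀) ∈ N := by
        rw [smul_comm]
        have hu' : (u : A) • r • (Submodule.Quotient.mk f₀ : F ⧸ N) = 0 := hu
        rw [← Submodule.Quotient.mk_smul, ← Submodule.Quotient.mk_smul,
          Submodule.Quotient.mk_eq_zero] at hu'
        exact hu'
      have h2 : (u : A) • f₀ ∈ L := hsat r hr0 _ (hNL h1)
      obtain ⟨s, hs, hs'⟩ := hloc _ h2
      rw [mk_eq_zero']
      have hsu : algebraMap R A s * u ∈ 𝔓.primeCompl := by
        refine Submonoid.mul_mem _ ?_ u.2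
        intro hmem
        exact hs (h𝔓 hmem)
      refine ⟨⟨_, hsu⟩, ?_⟩
      change (algebraMap R A s * u) • (Submodule.Quotient.mk f₀ : F ⧸ N) = 0
      rw [← Submodule.Quotient.mk_smul, Submodule.Quotient.mk_eq_zero, mul_smul, algebraMap_smul]
      exact hs'

include hR in
theorem exists_pow_smul_mem [Algebra.FinitePresentation R A] [Module.FinitePresentation A F]
    (p : Ideal R) [p.IsPrime] (L : Submodule A F)
    (hsat : ∀ a : R, a ≠ 0 → ∀ x : F, a • x ∈ L → x ∈ L) :
    ∃ (W : Finset F) (s : R), (∀ w ∈ W, w ∈ L) ∧ s ∉ p ∧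
      ∀ z ∈ L, ∃ n : ℕ, s ^ n • z ∈ Submodule.span A (W : Set F) := by
  classical
  haveI := hR p
  obtain ⟨W, hWL, hW⟩ := local_fg p L hsat
  obtain ⟨N, hN⟩ : ∃ N : Submodule A F, N = Submodule.span A (W : Set F) := ⟨_, rfl⟩
  have hNL : N ≤ L := by
    rw [hN, Submodule.span_le]
    exact fun w hw => hWL w hw
  have hloc : ∀ z ∈ L, ∃ s ∈ p.primeCompl, s • z ∈ N := by
    rw [hN]
    exact hW
  haveI : Module.FinitePresentation A (F ⧸ N) := by
    refine Module.finitePresentation_of_surjective N.mkQ (Submodule.mkQ_surjective _) ?_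
    rw [Submodule.ker_mkQ, hN]
    exact Submodule.fg_span (Finset.finite_toSet W)
  obtain ⟨G, hG⟩ : ∃ G : Ideal A, G = Ideal.span {g : A | ∀ (q' : Ideal A) [q'.IsPrime], g ∉ q' →
      Module.Flat R (LocalizedModule q'.primeCompl (F ⧸ N))} := ⟨_, rfl⟩
  have hex : ∃ s ∈ p.primeCompl, algebraMap R A s ∈ G := by
    by_contra hcon
    push_neg at hcon
    have hdisj : Disjoint (G : Set A) (Algebra.algebraMapSubmonoid A p.primeCompl : Set A) := by
      rw [Set.disjoint_left]
      rintro x hxG ⟨s, hs, rfl⟩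
      exact hcon s hs hxG
    obtain ⟨𝔓, h𝔓prime, hG𝔓, h𝔓disj⟩ := Ideal.exists_le_prime_disjoint G _ hdisj
    haveI := h𝔓prime
    have hcomap : 𝔓.comap (algebraMap R A) ≤ p := by
      intro r hr
      by_contra hrp
      exact Set.disjoint_left.mp h𝔓disj hr ⟨r, hrp, rfl⟩
    haveI := flat_localized_quot hR p L N hNL hsat hloc 𝔓 hcomap
    obtain ⟨g, hg𝔓, hg⟩ := Groth.Agent.H1.LimFlat.exists_flat_nhd_of_finitePresentation
      (R := R) (S := A) (M := F ⧸ N) 𝔓
    apply hg𝔓
    apply hG𝔓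
    rw [hG]
    exact Ideal.subset_span (fun q' _ hq' => hg q' hq')
  obtain ⟨s, hs, hsG⟩ := hex
  refine ⟨W, s, hWL, hs, ?_⟩
  intro z hz
  obtain ⟨J, hJ⟩ : ∃ J : Ideal A, J = LinearMap.ker
      (LinearMap.toSpanSingleton A (F ⧸ N) (Submodule.Quotient.mk z)) := ⟨_, rfl⟩
  have hJmem : ∀ a : A, a ∈ J ↔ a • z ∈ N := by
    intro a
    rw [hJ, LinearMap.mem_ker, LinearMap.toSpanSingleton_apply, ← Submodule.Quotient.mk_smul,
      Submodule.Quotient.mk_eq_zero]
  have hrad : algebraMap R A s ∈ J.radical := by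
    rw [Ideal.radical_eq_sInf, Ideal.mem_sInf]
    rintro 𝔔 ⟨hJ𝔔, h𝔔prime⟩
    haveI := h𝔔prime
    by_contra hs𝔔
    have hG𝔔 : ¬ G ≤ 𝔔 := fun h => hs𝔔 (h hsG)
    rw [hG, Ideal.span_le] at hG𝔔
    obtain ⟨g, hg, hg𝔔⟩ := Set.not_subset.mp hG𝔔
    haveI : Module.Flat R (LocalizedModule 𝔔.primeCompl (F ⧸ N)) := hg 𝔔 hg𝔔
    obtain ⟨s₀, hs₀, hs₀z⟩ := hloc z hz
    have hs₀0 : s₀ ≠ 0 := by
      rintro rfl
      exact hs₀ (Ideal.zero_mem p)
    have h1 : s₀ • (LocalizedModule.mk (Submodule.Quotient.mk z : F ⧸ N)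
        (1 : 𝔔.primeCompl)) = 0 := by
      rw [LocalizedModule.smul'_mk, ← Submodule.Quotient.mk_smul,
        (Submodule.Quotient.mk_eq_zero N).mpr hs₀z, LocalizedModule.zero_mk]
    have h2 : LocalizedModule.mk (Submodule.Quotient.mk z : F ⧸ N) (1 : 𝔔.primeCompl) = 0 := by
      have hreg := Module.Flat.isSMulRegular_of_nonZeroDivisors
        (M := LocalizedModule 𝔔.primeCompl (F ⧸ N)) (mem_nonZeroDivisors_of_ne_zero hs₀0)
      apply hreg
      simp only []
      rw [h1, smul_zero]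
    rw [mk_eq_zero'] at h2
    obtain ⟨u, hu⟩ := h2
    have huJ : (u : A) ∈ J := by
      rw [hJmem, ← Submodule.Quotient.mk_eq_zero N, Submodule.Quotient.mk_smul]
      exact hu
    exact u.2 (hJ𝔔 huJ)
  obtain ⟨n, hn⟩ := hrad
  refine ⟨n, ?_⟩
  rw [← map_pow, hJmem, algebraMap_smul] at hn
  rw [← hN]
  exact hn

include hR in
/-- **Prüfer local-global finiteness.** -/
theorem sat_fg [Algebra.FinitePresentation R A] [Module.FinitePresentation A F]
    (L : Submodule A F) (hsat : ∀ a : R, a ≠ 0 → ∀ x : F, a • x ∈ L → x ∈ L) : L.FG := by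
  classical
  have hex := fun (x : PrimeSpectrum R) => exists_pow_smul_mem hR x.asIdeal L hsat
  choose W s hWL hs hW using hex
  have hspan : Ideal.span (Set.range s) = ⊤ := by
    by_contra hne
    obtain ⟨m, hm, hle⟩ := Ideal.exists_le_maximal _ hne
    exact hs ⟨m, hm.isPrime⟩ (hle (Ideal.subset_span ⟨⟨m, hm.isPrime⟩, rfl⟩))
  obtain ⟨T, hTsub, hT⟩ := (Ideal.span_eq_top_iff_finite _).mp hspan
  have hpre : ∀ r, r ∈ (T : Set R) → ∃ x : PrimeSpectrum R, s x = r := fun r hr => hTsub hr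
  choose! x hx using hpre
  refine ⟨T.biUnion (fun r => W (x r)), ?_⟩
  apply le_antisymm
  · rw [Submodule.span_le]
    intro w hw
    rw [Finset.mem_coe, Finset.mem_biUnion] at hw
    obtain ⟨r, hr, hwr⟩ := hw
    exact hWL (x r) w hwr
  · intro z hz
    refine Submodule.mem_of_span_eq_top_of_smul_pow_mem
      ((Submodule.span A ((T.biUnion fun r => W (x r) : Finset F) : Set F)).restrictScalars R)
      (T : Set R) hT z ?_
    rintro ⟨r, hr⟩
    obtain ⟨n, hn⟩ := hW (x r) z hz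
    refine ⟨n, ?_⟩
    rw [hx r hr] at hn
    refine Submodule.span_mono ?_ hn
    intro w hw
    exact Finset.mem_coe.mpr (Finset.mem_biUnion.mpr ⟨r, hr, hw⟩)

end

end Groth.Agent.H8.Prufer
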