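import Mathlib
import Groth.Agent.Lib.Helper8.Prufer.Global

/-!
# helper8: finitely presented algebras over a Prüfer domain are coherent rings
-/

set_option autoImplicit false
universe u

namespace Groth.Agent.H8.Prufer

section

variable {R : Type u} [CommRing R] [IsDomain R]
  (hR : ∀ (p : Ideal R) [p.IsPrime], ValuationRing (Localization.AtPrime p))

include hR in
theorem ker_fg {P : Type u} [CommRing P] [IsDomain P] [Algebra R P]
    [Algebra.FinitePresentation R P] (hinj : Function.Injective (algebraMap R P))
    {F : Type u} [AddCommGroup F] [Module P F] [Module R F] [IsScalarTower R P F]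
    [Module.FinitePresentation P F] (ψ : F →ₗ[P] P) : (LinearMap.ker ψ).FG := by
  apply sat_fg hR
  intro a ha x hx
  rw [LinearMap.mem_ker] at hx ⊢
  have h1 : ψ (a • x) = algebraMap R P a * ψ x := by
    rw [← algebraMap_smul P a x, map_smul, smul_eq_mul]
  rw [h1] at hx
  rcases mul_eq_zero.mp hx with h | h
  · exfalso
    exact ha (hinj (by rw [h, map_zero]))
  · exact h

theorem fg_of_image {P A : Type u} [CommRing P] [CommRing A] (f : P →+* A) {r : ℕ}
    (Lt : Submodule P (Fin r → P)) (hLt : Lt.FG) (L : Submodule A (Fin r → A))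
    (h1 : ∀ x ∈ Lt, (fun i => f (x i)) ∈ L)
    (h2 : ∀ z ∈ L, ∃ x ∈ Lt, (fun i => f (x i)) = z) : L.FG := by
  classical
  obtain ⟨T, hT⟩ := hLt
  refine ⟨T.image (fun x i => f (x i)), ?_⟩
  apply le_antisymm
  · rw [Submodule.span_le]
    intro w hw
    rw [Finset.mem_coe, Finset.mem_image] at hw
    obtain ⟨x, hx, rfl⟩ := hw
    apply h1
    rw [← hT]
    exact Submodule.subset_span hx
  · intro z hz
    obtain ⟨x, hx, rfl⟩ := h2 z hz
    clear hz
    rw [← hT] at hx
    induction hx using Submodule.span_induction with
    | mem x hx => exact Submodule.subset_span (Finset.mem_coe.mpr (Finset.mem_image_of_mem _ hx))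
    | zero =>
      have h0 : (fun i => f ((0 : Fin r → P) i)) = (0 : Fin r → A) := by
        funext i
        simp
      rw [h0]
      exact Submodule.zero_mem _
    | add x y _ _ hx hy =>
      have h0 : (fun i => f ((x + y) i)) = (fun i => f (x i)) + (fun i => f (y i)) := by
        funext i
        simp
      rw [h0]
      exact Submodule.add_mem _ hx hy
    | smul c x _ hx =>
      have h0 : (fun i => f ((c • x) i)) = f c • (fun i => f (x i)) := by
        funext i
        simp
      rw [h0]
      exact Submodule.smul_mem _ _ hx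

include hR in
/-- The kernel of a linear combination map `A^r → A` is finitely generated, for `A` a finitely
presented algebra over a Prüfer domain. -/
theorem ker_linearCombination_fg (A : Type u) [CommRing A] [Algebra R A]
    [Algebra.FinitePresentation R A] {r : ℕ} (g : Fin r → A) :
    (LinearMap.ker (Fintype.linearCombination A g)).FG := by
  classical
  obtain ⟨n, f, hf, hker⟩ :=
    (Algebra.FinitePresentation.out :
      ∃ (n : ℕ) (f : MvPolynomial (Fin n) R →ₐ[R] A), Function.Surjective f ∧
        (RingHom.ker f.toRingHom).FG)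
  obtain ⟨m, a, ha⟩ := Submodule.fg_iff_exists_fin_generating_family.mp hker
  have hgt : ∀ i, ∃ p : MvPolynomial (Fin n) R, f p = g i := fun i => hf (g i)
  choose gt hgt using hgt
  have haf : ∀ j, f (a j) = 0 := by
    intro j
    have : a j ∈ RingHom.ker f.toRingHom := by
      rw [← ha]
      exact Submodule.subset_span ⟨j, rfl⟩
    exact this
  obtain ⟨ψ, hψ⟩ : ∃ ψ : ((Fin r → MvPolynomial (Fin n) R) × (Fin m → MvPolynomial (Fin n) R))
      →ₗ[MvPolynomial (Fin n) R] MvPolynomial (Fin n) R,
      ψ = (Fintype.linearCombination (MvPolynomial (Fin n) R) gt).coprod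
        (Fintype.linearCombination (MvPolynomial (Fin n) R) a) := ⟨_, rfl⟩
  have hψapp : ∀ x y, ψ (x, y) = ∑ i, x i * gt i + ∑ j, y j * a j := by
    intro x y
    rw [hψ, LinearMap.coprod_apply, Fintype.linearCombination_apply,
      Fintype.linearCombination_apply]
    simp only [smul_eq_mul]
  haveI : Module.FinitePresentation (MvPolynomial (Fin n) R)
      ((Fin r → MvPolynomial (Fin n) R) × (Fin m → MvPolynomial (Fin n) R)) :=
    Module.finitePresentation_of_projective _ _
  have hinj : Function.Injective (algebraMap R (MvPolynomial (Fin n) R)) := by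
    rw [MvPolynomial.algebraMap_eq]
    exact MvPolynomial.C_injective _ _
  have hK : (LinearMap.ker ψ).FG := ker_fg hR hinj ψ
  have hLt : ((LinearMap.ker ψ).map (LinearMap.fst (MvPolynomial (Fin n) R)
      (Fin r → MvPolynomial (Fin n) R) (Fin m → MvPolynomial (Fin n) R))).FG := hK.map _
  refine fg_of_image (f : MvPolynomial (Fin n) R →+* A) _ hLt _ ?_ ?_
  · intro x hx
    rw [Submodule.mem_map] at hx
    obtain ⟨⟨x', y⟩, hxy, rfl⟩ := hx
    rw [LinearMap.mem_ker, hψapp] at hxy
    rw [LinearMap.mem_ker, Fintype.linearCombination_apply]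
    have h3 := congrArg f hxy
    rw [map_add, map_sum, map_sum, map_zero] at h3
    have h4 : ∑ j, f (y j * a j) = 0 := by
      apply Finset.sum_eq_zero
      intro j _
      rw [map_mul, haf, mul_zero]
    rw [h4, add_zero] at h3
    rw [← h3]
    apply Finset.sum_congr rfl
    intro i _
    rw [map_mul, hgt, smul_eq_mul]
    rfl
  · intro z hz
    rw [LinearMap.mem_ker, Fintype.linearCombination_apply] at hz
    have hx : ∀ i, ∃ p : MvPolynomial (Fin n) R, f p = z i := fun i => hf (z i)
    choose x hx using hx
    have h5 : ∑ i, x i * gt i ∈ Ideal.span (Set.range a) := by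
      have ha' : Ideal.span (Set.range a) = RingHom.ker f.toRingHom := ha
      rw [ha', RingHom.mem_ker]
      change f (∑ i, x i * gt i) = 0
      rw [map_sum, ← hz]
      apply Finset.sum_congr rfl
      intro i _
      rw [map_mul, hgt, hx, smul_eq_mul]
    rw [Ideal.mem_span_range_iff_exists_fun] at h5
    obtain ⟨c, hc⟩ := h5
    refine ⟨x, ?_, ?_⟩
    · rw [Submodule.mem_map]
      refine ⟨(x, -c), ?_, rfl⟩
      rw [LinearMap.mem_ker, hψapp, ← hc, ← Finset.sum_add_distrib]
      apply Finset.sum_eq_zero
      intro j _
      rw [Pi.neg_apply]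
      ring
    · funext i
      exact hx i

include hR in
/-- **Coherence of finitely presented algebras over Prüfer domains.** -/
theorem main (A : Type u) [CommRing A] [Algebra R A] [Algebra.FinitePresentation R A]
    (I : Ideal A) (hI : I.FG) : Module.FinitePresentation A I := by
  classical
  obtain ⟨r, g, hg⟩ := Submodule.fg_iff_exists_fin_generating_family.mp hI
  have hmem : ∀ c, Fintype.linearCombination A g c ∈ I := by
    intro c
    have : Fintype.linearCombination A g c ∈ LinearMap.range (Fintype.linearCombination A g) :=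
      ⟨c, rfl⟩
    rw [Fintype.range_linearCombination, hg] at this
    exact this
  refine Module.finitePresentation_of_surjective
    (LinearMap.codRestrict I (Fintype.linearCombination A g) hmem) ?_ ?_
  · rintro ⟨y, hy⟩
    have hy' : y ∈ LinearMap.range (Fintype.linearCombination A g) := by
      rw [Fintype.range_linearCombination, hg]
      exact hy
    obtain ⟨c, hc⟩ := hy'
    exact ⟨c, Subtype.ext hc⟩
  · rw [LinearMap.ker_codRestrict]
    exact ker_linearCombination_fg hR A g

end

end Groth.Agent.H8.Prufer
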